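import Cfsg.Agent.CosetEnum.Fi23C.Data

set_option autoImplicit false
set_option maxRecDepth 100000
set_option Elab.async false

/-! Deductions for the coset table on 32 cosets (generated certificate). -/

namespace CfsgLib.CosetEnum.Fi23C

def B0 : ℕ := 0x8221841411c10e20e2a208b8830d1083c418a9838c1478a0

theorem tree0 : foldR (tree 6 tb id parN parX) 5 0 0 = B0 := by decide +kernel

theorem goodT0 : enum.Good B0 := enum.good_tree_block 5 0 _ _ enum.good_zero tree0

theorem good0 : enum.Good B0 := goodT0

def D1 : ℕ := 0xff00000000ff00000000ff00000000ff00000000ff00000000ff00000000ff00000000ff00000000ff00000000ff00000000ff00000000ff00000000ff00000000ff00000000ff0000001e050200001c010200001e130200001e110200001e0e0200001d0a0200001d090100001d080100001b0703000016070200001c050100001905010000170501000015050100001c0401000019040100001c0301000015030100001702010000150201000016010300001401030000110103000007130200000e11020000190e010000130e020000190d010000170c0300000e0c020000130a030000100a0300000d0a03000016090100000509010000110801000010080200000c0801000012070300000f070300000c070200000807020000130502000010050200000e050200000d050200000a050200000705020000040401000002040100001003020000090301000002030100000e020200000a020200000902010000060201000009010200000601020000040102000013130200000d110200000d100300000410020000070e020000060d020000020d010000070c030000020c0200000c0a020000080a020000050a02000006090200000109010000040802000001080100000307030000010702000009050100000605010000040501000002050100001504010000170301000001010300000613010000001302000004110100000011020000020e010000000e020000000a030000110901000014080100000005020000001900000000180000000017000000001600000000150000000d130200000a13020000101102000007110200000e0e0200000a0e0200000a0d02000008090200000508020000060402000004030200001902020000020202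

def B1 : ℕ := 0xffffffffffffffffffffffffffffffffffffffffffffffff

theorem step1 : runDed 6 tb id wd 21 26 7 D1 B0 = B1 := by decide +kernel

theorem good1 : enum.Good B1 :=
  enum.good_ded 7 D1 21 26 _ _ rfl rfl good0 step1

end CfsgLib.CosetEnum.Fi23C
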