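import Cfsg.Agent.CosetEnum.Upper
import Cfsg.Agent.CosetEnum.Fi23.Setup

set_option autoImplicit false

/-! Coset table of `Cfsg.Spor.Fi23` on 32 cosets. -/

namespace CfsgLib.CosetEnum.Fi23C

def t0 : ℕ := 0x1f0001e0001c0001d00019000170001b000150001a000160001800014000130001200011000100000f0000e0000d000090000b0000a0000c000060000700008000040000500002000030000100000
def t1 : ℕ := 0x1f0001d0001e0001c0001b0001a000160001800014000190001100017000130001200015000100000f0000c0000d0000e0000b00008000090000a0000500006000070000400003000010000200000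
def t2 : ℕ := 0x1f0001e0001b000190001d0001a0001c000180001700016000150001200013000140000f0000e00011000100000a0000c0000b0000d00009000080000700006000030000200005000040000100000
def t3 : ℕ := 0x1f0001e0001d0001c0001a0001b000170001800019000140001500016000100001200011000130000b0000e0000d0000c0000f0000700009000050000a00004000080000600003000020000100000
def t4 : ℕ := 0x1f0001e0001d0001c0001b00018000190001a00015000160001700011000130000f000140000d000120000a00010000080000b0000e000060000c0000700009000050000400003000020000100000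
def t5 : ℕ := 0x1e0001f0001d0001c0001b0001a000190001800017000130001500010000160000e0000d000140000a00012000110000c000070000f00009000080000b00006000050000400003000020000000001

/-- The packed table of a letter. -/
noncomputable def tb (x : ℕ) : ℕ := (Bool.rec (motive := fun _ => ℕ) (Bool.rec (motive := fun _ => ℕ) t0 (Bool.rec (motive := fun _ => ℕ) t1 t2 (Nat.ble 2 x)) (Nat.ble 1 x)) (Bool.rec (motive := fun _ => ℕ) t3 (Bool.rec (motive := fun _ => ℕ) t4 t5 (Nat.ble 5 x)) (Nat.ble 4 x)) (Nat.ble 3 x))

def parN : ℕ := 0x1e0001d0001b000190001900017000160001500014000130001100010000100000e0000d0000d0000a0000a0000a000080000700007000060000500005000040000300002000020000100000fffff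
def parX : ℕ := 0x500001000020000200000000000000100000000010000500001000050000300005000050000400005000040000200004000050000300004000030000100003000020000200000000010000500000

/-- Relators, then subgroup generators. -/
def allW : List (List ℕ) := [
  [0, 0],
  [0, 1, 0, 1, 0, 1],
  [0, 2, 0, 2],
  [0, 3, 0, 3],
  [0, 4, 0, 4],
  [0, 5, 0, 5],
  [1, 1],
  [1, 2, 1, 2, 1, 2],
  [1, 3, 1, 3],
  [1, 4, 1, 4],
  [1, 5, 1, 5, 1, 5],
  [2, 2],
  [2, 3, 2, 3, 2, 3],
  [2, 4, 2, 4],
  [2, 5, 2, 5],
  [3, 3],
  [3, 4, 3, 4, 3, 4],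
  [3, 5, 3, 5],
  [4, 4],
  [4, 5, 4, 5],
  [5, 5],
  [0],
  [1],
  [2],
  [3],
  [4]]

/-- The relators in local letters. -/
def rels : List (List ℕ) := [
  [0, 0],
  [0, 1, 0, 1, 0, 1],
  [0, 2, 0, 2],
  [0, 3, 0, 3],
  [0, 4, 0, 4],
  [0, 5, 0, 5],
  [1, 1],
  [1, 2, 1, 2, 1, 2],
  [1, 3, 1, 3],
  [1, 4, 1, 4],
  [1, 5, 1, 5, 1, 5],
  [2, 2],
  [2, 3, 2, 3, 2, 3],
  [2, 4, 2, 4],
  [2, 5, 2, 5],
  [3, 3],
  [3, 4, 3, 4, 3, 4],
  [3, 5, 3, 5],
  [4, 4],
  [4, 5, 4, 5],
  [5, 5]]

/-- The enumeration. -/
noncomputable def enum : Local CfsgLib.CosetEnum.Fi23.setup where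
  L := [2, 3, 4, 5, 6, 8]
  L' := [2, 3, 4, 5, 6]
  known := []
  known_one := fun v hv => absurd hv List.not_mem_nil
  rels := rels
  rels_ok := by decide +kernel
  subs := [0, 1, 2, 3, 4]
  subs_ok := by decide +kernel
  all := allW
  all_eq := by decide +kernel
  n := 32
  tb := tb
  parN := parN
  parX := parX

/-- The word with a given index. -/
def wd (r : ℕ) : List ℕ := allW.getD r []

end CfsgLib.CosetEnum.Fi23C
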